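import Mathlib
import Cfsg.Agent.H767.PU.Form
import Cfsg.Agent.Solvable.SZ

/-!
# S5258, task PU-POS (helper595): every `p'`-group of automorphisms of `UG K` is conjugate into `TT K`
-/

set_option autoImplicit false

namespace Cfsg.Agent.H595.PU

open Cfsg Cfsg.FusionSystem Cfsg.Agent.H756.PU Cfsg.Agent.H767.PU

universe u

variable {K : Type u} [Field K] [StarRing K] {p n : ℕ}

/-! ### the field -/

theorem exists_trace_ne (h : HypK K p n) : ∃ x : K, x + star x ≠ 0 := by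
  classical
  by_contra hcon
  push Not at hcon
  have := h.fin
  have := Fintype.ofFinite K
  have hcard : Fintype.card K = (p ^ n) ^ 2 := by rw [← Nat.card_eq_fintype_card, h.card]
  have hq : 2 ≤ p ^ n := by
    calc 2 ≤ p := h.pp.two_le
      _ = p ^ 1 := (pow_one p).symm
      _ ≤ p ^ n := Nat.pow_le_pow_right h.pp.pos h.hn
  let P : Polynomial K := Polynomial.X ^ (p ^ n) + Polynomial.X
  have hdeg : P.natDegree = p ^ n := by
    have h1 : (Polynomial.X ^ (p ^ n) : Polynomial K).natDegree = p ^ n := Polynomial.natDegree_X_pow _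
    have h2 : (Polynomial.X : Polynomial K).natDegree < (Polynomial.X ^ (p ^ n) : Polynomial K).natDegree := by
      rw [h1, Polynomial.natDegree_X]; omega
    rw [Polynomial.natDegree_add_eq_left_of_natDegree_lt h2, h1]
  have hP0 : P ≠ 0 := by
    intro h0
    rw [h0, Polynomial.natDegree_zero] at hdeg
    omega
  have h1 : Fintype.card K ≤ P.natDegree := by
    have h3 : (Finset.univ : Finset K) ⊆ P.roots.toFinset := by
      intro x _
      rw [Multiset.mem_toFinset, Polynomial.mem_roots hP0, Polynomial.IsRoot.def, Polynomial.eval_add,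
        Polynomial.eval_pow, Polynomial.eval_X, ← h.star_eq, add_comm]
      exact hcon x
    calc Fintype.card K = (Finset.univ : Finset K).card := rfl
      _ ≤ P.roots.toFinset.card := Finset.card_le_card h3
      _ ≤ Multiset.card P.roots := Multiset.toFinset_card_le _
      _ ≤ P.natDegree := Polynomial.card_roots' P
  rw [hcard, hdeg] at h1
  nlinarith

theorem exists_om (h : HypK K p n) : ∃ w : K, w + star w = 1 := by
  obtain ⟨x, hx⟩ := exists_trace_ne h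
  refine ⟨x / (x + star x), ?_⟩
  have h1 : star (x / (x + star x)) = star x / (x + star x) := by
    rw [star_div₀, star_add, star_star, add_comm (star x) x]
  rw [h1, ← add_div, div_self hx]

theorem exists_mv (h : HypK K p n) : ∃ x : K, star x ≠ x := by
  by_contra hcon
  push Not at hcon
  classical
  have := h.fin
  have := Fintype.ofFinite K
  have hcard : Fintype.card K = (p ^ n) ^ 2 := by rw [← Nat.card_eq_fintype_card, h.card]
  have hq : 2 ≤ p ^ n := by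
    calc 2 ≤ p := h.pp.two_le
      _ = p ^ 1 := (pow_one p).symm
      _ ≤ p ^ n := Nat.pow_le_pow_right h.pp.pos h.hn
  obtain ⟨g, hg⟩ := IsCyclic.exists_generator (α := Kˣ)
  have h3 : g ^ (p ^ n - 1) = 1 := by
    have h4 : (g : K) ^ (p ^ n) = g := by rw [← h.star_eq, hcon]
    apply Units.ext
    rw [Units.val_pow_eq_pow_val, Units.val_one]
    apply mul_right_cancel₀ g.ne_zero
    rw [one_mul, ← pow_succ, Nat.sub_add_cancel (by omega), h4]
  have h4 : Fintype.card Kˣ ∣ p ^ n - 1 := by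
    rw [← Nat.card_eq_fintype_card, ← orderOf_eq_card_of_forall_mem_zpowers hg]
    exact orderOf_dvd_of_pow_eq_one h3
  rw [Fintype.card_units, hcard] at h4
  have h5 := Nat.le_of_dvd (by omega) h4
  have h6 : (p ^ n) ^ 2 ≤ p ^ n := by omega
  nlinarith

theorem exists_ka (h : HypK K p n) : ∃ k : K, k ≠ 0 ∧ k + star k = 0 := by
  obtain ⟨x, hx⟩ := exists_mv h
  refine ⟨x - star x, sub_ne_zero.2 (Ne.symm hx), ?_⟩
  rw [star_sub, star_star]
  ring

/-! ### elements -/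

/-- the element with the given coordinates -/
def mk (w : K) (hw : w + star w = 1) (r u1 u2 b : K) : UG K where
  r := r
  u1 := u1
  u2 := u2
  a := - w * (u1 * star u1)
  b := b
  c := - w * (u2 * star u2)
  ha := by
    simp only [star_mul', star_neg, star_star]
    linear_combination (-(u1 * star u1)) * hw
  hc := by
    simp only [star_mul', star_neg, star_star]
    linear_combination (-(u2 * star u2)) * hw

/-- elements of `V` -/
def mkV (a b c : K) (ha : a + star a = 0) (hc : c + star c = 0) : UG K where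
  r := 0
  u1 := 0
  u2 := 0
  a := a
  b := b
  c := c
  ha := by rw [zero_mul, add_zero, ha]
  hc := by rw [zero_mul, add_zero, hc]

/-! ### characteristic subgroups -/

/-- all automorphisms fix `Q` -/
def Ch (Q : Subgroup (UG K)) : Prop := ∀ (α : MulAut (UG K)) (g : UG K), g ∈ Q → α g ∈ Q

theorem Ch.iff {Q : Subgroup (UG K)} (h : Ch Q) (α : MulAut (UG K)) (g : UG K) : α g ∈ Q ↔ g ∈ Q := by
  refine ⟨fun hg => ?_, h α g⟩
  have := h α⁻¹ _ hg
  have e : α⁻¹ (α g) = g := α.symm_apply_apply g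
  rwa [e] at this

theorem ch_of_map {Q : Subgroup (UG K)} (h : ∀ α : MulAut (UG K), Q.map α.toMonoidHom = Q) : Ch Q := by
  intro α g hg
  rw [← h α]
  exact ⟨g, hg, rfl⟩

theorem ch_inf {Q R : Subgroup (UG K)} (hQ : Ch Q) (hR : Ch R) : Ch (Q ⊓ R) :=
  fun α g hg => ⟨hQ α g hg.1, hR α g hg.2⟩

theorem ch_VV (h : HypK K p n) (h2 : Ch (Q2 K)) : Ch (VV K) := by
  obtain ⟨w, hw⟩ := exists_om h
  have key : ∀ g : UG K, g ∈ VV K ↔ g ∈ Q2 K ∧ ∀ x ∈ Q2 K, g * x = x * g := by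
    intro g
    constructor
    · rintro ⟨h1, h3, h4⟩
      refine ⟨h1, fun x hx => ?_⟩
      have hx' : x.r = 0 := hx
      rw [commute_iff, h1, h3, h4, hx']
      simp
    · rintro ⟨h1, h3⟩
      have h1' : g.r = 0 := h1
      have e1 := (commute_iff _ _).1 (h3 (mk w hw 0 0 1 0) rfl)
      have e2 := (commute_iff _ _).1 (h3 (mk w hw 0 1 0 0) rfl)
      have f1 := e1.2.2.1
      have f2 := e2.2.2.1
      simp only [mk, h1', star_one, star_zero, zero_mul, mul_zero, mul_one, zero_sub, one_mul, neg_zero, sub_zero, neg_eq_zero,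
        zero_eq_neg] at f1 f2
      have f3 : g.u2 = 0 := by
        have := congrArg star f2
        simpa using this
      exact ⟨h1', f1, f3⟩
  intro α g hg
  rw [key] at hg ⊢
  refine ⟨h2 α g hg.1, fun x hx => ?_⟩
  obtain ⟨y, rfl⟩ := α.surjective x
  have hy : y ∈ Q2 K := (h2.iff α y).1 hx
  rw [← map_mul, ← map_mul, hg.2 y hy]

theorem ch_Z2 (h1 : Ch (Q1 K)) (hV : Ch (VV K)) : Ch (Z2 K) := by
  intro α g hg
  have hg' := mem_Z2.1 hg
  have e1 := h1 α g (Z2_le_Q1 hg)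
  have e2 := hV α g (Z2_le_VV hg)
  exact ⟨e2.1, e2.2.1, e2.2.2, e1.2⟩

theorem mem_QV_iff (g : UG K) : g ∈ QV K ↔ ∃ x ∈ Q1 K, ∃ y ∈ VV K, x * y = g := by
  constructor
  · intro hg
    have hg' : g.u2 = 0 := hg
    have hc := g.hc
    rw [hg', zero_mul, add_zero] at hc
    refine ⟨g * (mkV 0 0 g.c (by simp) hc)⁻¹, ?_, mkV 0 0 g.c (by simp) hc, ?_, by group⟩
    · constructor
      · simp [mkV, hg']
      · simp [mkV, hg', hc]
    · exact ⟨rfl, rfl, rfl⟩
  · rintro ⟨x, hx, y, hy, rfl⟩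
    have hx' := mem_Q1.1 hx
    have hy' := mem_VV.1 hy
    show (x * y).u2 = 0
    rw [UG.mul_u2, hx'.1, hy'.2.2, add_zero]

theorem ch_QV (h1 : Ch (Q1 K)) (hV : Ch (VV K)) : Ch (QV K) := by
  intro α g hg
  rw [mem_QV_iff] at hg ⊢
  obtain ⟨x, hx, y, hy, rfl⟩ := hg
  exact ⟨α x, h1 α x hx, α y, hV α y hy, (map_mul α x y).symm⟩

theorem ch_YY (h2 : Ch (Q2 K)) (hV : Ch (QV K)) : Ch (YY K) := by
  intro α g hg
  exact ⟨h2 α g (YY_le_Q2 hg), hV α g (YY_le_QV hg)⟩

theorem ch_ZS (h : HypK K p n) (hZ : Ch (Z2 K)) : Ch (ZS K) := by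
  obtain ⟨w, hw⟩ := exists_om h
  obtain ⟨m, hm⟩ := exists_mv h
  have key : ∀ g : UG K, g ∈ ZS K ↔ g ∈ Z2 K ∧ ∀ x : UG K, g * x = x * g := by
    intro g
    constructor
    · intro hg
      refine ⟨ZS_le_Z2 hg, fun x => ?_⟩
      obtain ⟨h1, h3, h4, h5, h6⟩ := hg
      rw [commute_iff, h1, h3, h4, h6]
      simp [UG.d, h3, h4, h5]
    · rintro ⟨⟨h1, h3, h4, h5⟩, h6⟩
      refine ⟨h1, h3, h4, ?_, h5⟩
      have e1 := ((commute_iff _ _).1 (h6 (mk w hw 1 0 0 0))).2.2.2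
      have e2 := ((commute_iff _ _).1 (h6 (mk w hw m 0 0 0))).2.2.2
      simp only [mk, h1, h3, h4, h5, UG.d, star_one, star_zero, zero_mul, mul_zero, mul_one, zero_sub, one_mul,
        neg_zero, sub_zero, add_zero, zero_add] at e1 e2
      have e3 : (star m - m) * g.b = 0 := by linear_combination m * e1 - e2
      exact (mul_eq_zero.1 e3).resolve_left (sub_ne_zero.2 hm)
  intro α g hg
  rw [key] at hg ⊢
  refine ⟨hZ α g hg.1, fun x => ?_⟩
  obtain ⟨y, rfl⟩ := α.surjective x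
  rw [← map_mul, ← map_mul, hg.2 y]

/-! ### the defect of an automorphism -/

/-- the counting argument: a coordinate `χ` additive on `P` and preserved by `α` vanishes on `x⁻¹ α x` -/
theorem defect {P : Subgroup (UG K)} {χ : UG K → K} {α : MulAut (UG K)}
    (hχ : ∀ x ∈ P, ∀ y ∈ P, χ (x * y) = χ x + χ y) (hP : ∀ x ∈ P, α x ∈ P)
    (hα : ∀ x ∈ P, χ (α x) = χ x) (h1 : χ 1 = 0) {x : UG K} (hx : x⁻¹ * α x ∈ P) {m : ℕ}
    (hm : α ^ m = 1) (hm0 : (m : K) ≠ 0) : χ (x⁻¹ * α x) = 0 := by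
  have key : ∀ j : ℕ, x⁻¹ * (α ^ j) x ∈ P ∧ χ (x⁻¹ * (α ^ j) x) = j * χ (x⁻¹ * α x) := by
    intro j
    induction j with
    | zero =>
      have e : x⁻¹ * (α ^ 0) x = 1 := by
        rw [pow_zero, MulAut.one_apply, inv_mul_cancel]
      rw [e]
      exact ⟨P.one_mem, by rw [h1, Nat.cast_zero, zero_mul]⟩
    | succ j ih =>
      have e : x⁻¹ * (α ^ (j + 1)) x = (x⁻¹ * α x) * α (x⁻¹ * (α ^ j) x) := by
        rw [pow_succ', MulAut.mul_apply, map_mul, map_inv]
        group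
      rw [e]
      refine ⟨P.mul_mem hx (hP _ ih.1), ?_⟩
      rw [hχ _ hx _ (hP _ ih.1), hα _ ih.1, ih.2]
      push_cast
      ring
  have h2 := (key m).2
  rw [hm, MulAut.one_apply, inv_mul_cancel, h1] at h2
  exact (mul_eq_zero.1 h2.symm).resolve_left hm0

/-! ### the coordinates of an automorphism -/

/-- the hypotheses of this section: the chain is characteristic -/
structure AllCh (K : Type u) [Field K] [StarRing K] : Prop where
  c2 : Ch (Q2 K)
  cQV : Ch (QV K)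
  cY : Ch (YY K)
  cV : Ch (VV K)
  cZ2 : Ch (Z2 K)
  cZ : Ch (ZS K)

theorem allCh (h : HypK K p n) (hTI : StTI.{u}) : AllCh K := by
  have c1 : Ch (Q1 K) := ch_of_map (hTI h (Q1 K) (Or.inl rfl)).2.2.2
  have c2 : Ch (Q2 K) := ch_of_map (hTI h (Q2 K) (Or.inr rfl)).2.2.2
  have cV := ch_VV h c2
  have cZ2 := ch_Z2 c1 cV
  have cQV := ch_QV c1 cV
  exact ⟨c2, cQV, ch_YY c2 cQV, cV, cZ2, ch_ZS h cZ2⟩

theorem r_congr (hc : AllCh K) (α : MulAut (UG K)) {x y : UG K} (h : x.r = y.r) : (α x).r = (α y).r := by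
  have h1 : x⁻¹ * y ∈ Q2 K := by
    show (x⁻¹ * y).r = 0
    simp [h]
  have h2 : (α (x⁻¹ * y)).r = 0 := hc.c2 α _ h1
  rw [map_mul, map_inv, UG.mul_r, UG.inv_r] at h2
  linear_combination -h2

theorem u2_congr (hc : AllCh K) (α : MulAut (UG K)) {x y : UG K} (h : x.u2 = y.u2) : (α x).u2 = (α y).u2 := by
  have h1 : x⁻¹ * y ∈ QV K := by
    show (x⁻¹ * y).u2 = 0
    simp [h]
  have h2 : (α (x⁻¹ * y)).u2 = 0 := hc.cQV α _ h1
  rw [map_mul, map_inv, UG.mul_u2, UG.inv_u2] at h2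
  linear_combination -h2

theorem u1_congr (hc : AllCh K) (α : MulAut (UG K)) {x y : UG K} (hx : x ∈ YY K) (hy : y ∈ YY K)
    (h : x.u1 = y.u1) : (α x).u1 = (α y).u1 := by
  have hx' := mem_YY.1 hx
  have hy' := mem_YY.1 hy
  have h1 : x⁻¹ * y ∈ VV K := by
    refine ⟨?_, ?_, ?_⟩
    · simp [hx'.1, hy'.1]
    · simp [hx'.1, hy'.1, h]
    · simp [hx'.2, hy'.2]
  have h2 : (α (x⁻¹ * y)).u1 = 0 := (hc.cV α _ h1).2.1
  have ax := mem_YY.1 (hc.cY α x hx)
  have ay := mem_YY.1 (hc.cY α y hy)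
  rw [map_mul, map_inv, UG.mul_u1, UG.inv_u1, UG.inv_r, ax.1, ax.2] at h2
  linear_combination -h2

theorem c_congr (hc : AllCh K) (α : MulAut (UG K)) {x y : UG K} (hx : x ∈ VV K) (hy : y ∈ VV K)
    (h : x.c = y.c) : (α x).c = (α y).c := by
  have hx' := mem_VV.1 hx
  have hy' := mem_VV.1 hy
  have hcx := x.hc
  rw [hx'.2.2, zero_mul, add_zero] at hcx
  have h1 : x⁻¹ * y ∈ Z2 K := by
    refine ⟨?_, ?_, ?_, ?_⟩
    · simp [hx'.1, hy'.1]
    · simp [hx'.1, hx'.2.1, hy'.2.1]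
    · simp [hx'.2.2, hy'.2.2]
    · rw [UG.mul_c, UG.inv_c, UG.inv_u2, hx'.2.2, ← h]
      linear_combination hcx
  have h2 : (α (x⁻¹ * y)).c = 0 := (hc.cZ2 α _ h1).2.2.2
  have ax := mem_VV.1 (hc.cV α x hx)
  have ay := mem_VV.1 (hc.cV α y hy)
  have hax := (α x).hc
  rw [ax.2.2, zero_mul, add_zero] at hax
  rw [map_mul, map_inv, UG.mul_c, UG.inv_c, UG.inv_u2, ax.2.2] at h2
  linear_combination -h2 + hax

theorem b_congr (hc : AllCh K) (α : MulAut (UG K)) {x y : UG K} (hx : x ∈ Z2 K) (hy : y ∈ Z2 K)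
    (h : x.b = y.b) : (α x).b = (α y).b := by
  have hx' := mem_Z2.1 hx
  have hy' := mem_Z2.1 hy
  have h1 : x⁻¹ * y ∈ ZS K := by
    refine ⟨?_, ?_, ?_, ?_, ?_⟩
    · simp [hx'.1, hy'.1]
    · simp [hx'.1, hx'.2.1, hy'.2.1]
    · simp [hx'.2.2.1, hy'.2.2.1]
    · rw [UG.mul_b, UG.inv_b, UG.inv_r, UG.inv_u1]
      simp [UG.d, hx'.1, hx'.2.1, hx'.2.2.1, hx'.2.2.2, h]
    · simp [hx'.2.2.1, hx'.2.2.2, hy'.2.2.2]
  have h2 : (α (x⁻¹ * y)).b = 0 := (hc.cZ α _ h1).2.2.2.1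
  have ax := mem_Z2.1 (hc.cZ2 α x hx)
  have ay := mem_Z2.1 (hc.cZ2 α y hy)
  rw [map_mul, map_inv, UG.mul_b, UG.inv_b, UG.inv_r, UG.inv_u1] at h2
  simp [UG.d, ax.1, ax.2.1, ax.2.2.1, ax.2.2.2] at h2
  linear_combination -h2

/-- the automorphisms trivial on `S/Y` -/
def RR (hc : AllCh K) : Subgroup (MulAut (UG K)) where
  carrier := {α | ∀ x, (α x).r = x.r ∧ (α x).u2 = x.u2}
  one_mem' := fun x => ⟨rfl, rfl⟩
  mul_mem' := by
    intro α β ha hb x
    rw [MulAut.mul_apply]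
    exact ⟨((ha _).1).trans (hb x).1, ((ha _).2).trans (hb x).2⟩
  inv_mem' := by
    intro α ha x
    have h1 := ha (α⁻¹ x)
    have e : α (α⁻¹ x) = x := α.apply_symm_apply x
    rw [e] at h1
    exact ⟨h1.1.symm, h1.2.symm⟩

theorem RR_normal (hc : AllCh K) : (RR hc).Normal := by
  constructor
  intro α ha γ x
  have e : γ (γ⁻¹ x) = x := γ.apply_symm_apply x
  have h1 := ha (γ⁻¹ x)
  rw [MulAut.mul_apply, MulAut.mul_apply]
  refine ⟨?_, ?_⟩
  · rw [r_congr hc γ h1.1, e]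
  · rw [u2_congr hc γ h1.2, e]

/-- a `p'`-element of `RR` is trivial -/
theorem RR_trivial (h : HypK K p n) (hc : AllCh K) {α : MulAut (UG K)} (ha : α ∈ RR hc) {m : ℕ}
    (hm : α ^ m = 1) (hpm : ¬ p ∣ m) : α = 1 := by
  obtain ⟨w, hw⟩ := exists_om h
  obtain ⟨k, hk0, hk⟩ := exists_ka h
  have hm0 : (m : K) ≠ 0 := by
    have := h.char
    intro h0
    exact hpm ((CharP.cast_eq_zero_iff K p m).1 h0)
  have ha' : ∀ x, (α x).r = x.r ∧ (α x).u2 = x.u2 := ha
  -- on `Y/V`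
  have s1 : ∀ y ∈ YY K, (α y).u1 = y.u1 := by
    intro y hy
    let x1 : UG K := mk w hw y.u1 0 0 0
    let x2 : UG K := mk w hw 0 0 1 0
    have e1 : (x1 * x2 * x1⁻¹ * x2⁻¹).u1 = y.u1 := by
      rw [comm_u1]; simp [x1, x2, mk]
    have e2 : x1 * x2 * x1⁻¹ * x2⁻¹ ∈ YY K := ⟨comm_r _ _, comm_u2 _ _⟩
    rw [← u1_congr hc α e2 hy e1, map_mul, map_mul, map_mul, map_inv, map_inv, comm_u1, (ha' x1).1,
      (ha' x2).1, (ha' x1).2, (ha' x2).2]
    simp [x1, x2, mk]
  have d0 : ∀ x, x⁻¹ * α x ∈ YY K := by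
    intro x
    refine ⟨?_, ?_⟩
    · rw [UG.mul_r, UG.inv_r, (ha' x).1, neg_add_cancel]
    · rw [UG.mul_u2, UG.inv_u2, (ha' x).2, neg_add_cancel]
  have d1 : ∀ x, x⁻¹ * α x ∈ VV K := by
    intro x
    have := defect (P := YY K) (χ := UG.u1) (α := α) (fun x hx y hy => by
      rw [UG.mul_u1, (mem_YY.1 hx).1, zero_mul, add_zero]) (hc.cY α) s1 rfl (d0 x) hm hm0
    exact ⟨(d0 x).1, this, (d0 x).2⟩
  -- on `V/Z2`
  have s2 : ∀ y ∈ VV K, (α y).c = y.c := by
    intro y hy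
    have hyc := y.hc
    rw [(mem_VV.1 hy).2.2, zero_mul, add_zero] at hyc
    let x1 : UG K := mk w hw 0 0 1 0
    let x2 : UG K := mk w hw 0 0 (w * y.c) 0
    have e0 : star y.c = - y.c := by linear_combination hyc
    have e3 : w * y.c * star (1 : K) - 1 * star (w * y.c) = y.c := by
      rw [star_one, star_mul', e0]
      linear_combination y.c * hw
    have e1 : (x1 * x2 * x1⁻¹ * x2⁻¹).c = y.c := by
      rw [comm_c]; exact e3
    have e2 : x1 * x2 * x1⁻¹ * x2⁻¹ ∈ VV K := ⟨comm_r _ _, by rw [comm_u1]; simp [x1, x2, mk], comm_u2 _ _⟩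
    rw [← c_congr hc α e2 hy e1, map_mul, map_mul, map_mul, map_inv, map_inv, comm_c, (ha' x1).2, (ha' x2).2]
    exact e3
  have d2 : ∀ x, x⁻¹ * α x ∈ Z2 K := by
    intro x
    have := defect (P := VV K) (χ := UG.c) (α := α) (fun x hx y hy => by
      rw [UG.mul_c, (mem_VV.1 hx).2.2, zero_mul, sub_zero]) (hc.cV α) s2 rfl (d1 x) hm hm0
    exact ⟨(d1 x).1, (d1 x).2.1, (d1 x).2.2, this⟩
  -- on `Z2/Z`
  have s3 : ∀ y ∈ Z2 K, (α y).b = y.b := by
    intro y hy
    let x1 : UG K := mk w hw (y.b * k⁻¹) 0 0 0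
    let x2 : UG K := mkV 0 0 k (by simp) hk
    have hx2 : x2 ∈ VV K := ⟨rfl, rfl, rfl⟩
    have ax2 := mem_VV.1 (hc.cV α x2 hx2)
    have e1 : (x1 * x2 * x1⁻¹ * x2⁻¹).b = y.b := by
      rw [comm_b]; simp [x1, x2, mk, mkV, hk0]
    have e2 : x1 * x2 * x1⁻¹ * x2⁻¹ ∈ Z2 K := ⟨comm_r _ _, by rw [comm_u1]; simp [x1, x2, mk, mkV], comm_u2 _ _,
      by rw [comm_c]; simp [x1, x2, mk, mkV]⟩
    rw [← b_congr hc α e2 hy e1, map_mul, map_mul, map_mul, map_inv, map_inv, comm_b, (ha' x1).1,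
      (ha' x1).2, s2 x2 hx2, ax2.1, ax2.2.1, ax2.2.2]
    simp [x1, x2, mk, mkV, hk0]
  have d3 : ∀ x, x⁻¹ * α x ∈ ZS K := by
    intro x
    have := defect (P := Z2 K) (χ := UG.b) (α := α) (fun x hx y hy => by
      rw [UG.mul_b, (mem_Z2.1 hx).1, (mem_Z2.1 hx).2.1]; ring) (hc.cZ2 α) s3 rfl (d2 x) hm hm0
    exact ⟨(d2 x).1, (d2 x).2.1, (d2 x).2.2.1, this, (d2 x).2.2.2⟩
  -- on `Z`
  have s4 : ∀ y ∈ ZS K, (α y).a = y.a := by
    intro y hy
    have hya := y.ha
    rw [(mem_ZS.1 hy).2.1, zero_mul, add_zero] at hya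
    have e0 : star y.a = - y.a := by linear_combination hya
    let x1 : UG K := mk w hw 1 0 0 0
    let x2 : UG K := mkV 0 (w * y.a) 0 (by simp) (by simp)
    have hx2 : x2 ∈ Z2 K := ⟨rfl, rfl, rfl, rfl⟩
    have ax2 := mem_Z2.1 (hc.cZ2 α x2 hx2)
    have e3 : - star (w * y.a) + w * y.a = y.a := by
      rw [star_mul', e0]
      linear_combination y.a * hw
    have e1 : (x1 * x2 * x1⁻¹ * x2⁻¹).a = y.a := by
      rw [comm_a, d_def, d_def]
      simpa [x1, x2, mk, mkV] using e3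
    have e2 : x1 * x2 * x1⁻¹ * x2⁻¹ ∈ ZS K := ⟨comm_r _ _, by rw [comm_u1]; simp [x1, x2, mk, mkV], comm_u2 _ _,
      by rw [comm_b]; simp [x1, x2, mk, mkV], by rw [comm_c]; simp [x1, x2, mk, mkV]⟩
    have e4 : x1 * x2 * x1⁻¹ * x2⁻¹ = y := by
      have hy' := mem_ZS.1 hy
      ext
      · rw [comm_r, hy'.1]
      · rw [e2.2.1, hy'.2.1]
      · rw [comm_u2, hy'.2.2.1]
      · exact e1
      · rw [e2.2.2.2.1, hy'.2.2.2.1]
      · rw [e2.2.2.2.2, hy'.2.2.2.2]
    rw [← e4, map_mul, map_mul, map_mul, map_inv, map_inv, comm_a, comm_a, d_def, d_def, d_def, d_def, (ha' x1).1,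
      (ha' x1).2, s3 x2 hx2, ax2.1, ax2.2.1, ax2.2.2.1, ax2.2.2.2]
    simp [x1, x2, mk, mkV]
  ext1 x
  have d4 : (x⁻¹ * α x).a = 0 := defect (P := ZS K) (χ := UG.a) (α := α) (fun x hx y hy => by
    rw [UG.mul_a, (mem_ZS.1 hx).1, (mem_ZS.1 hx).2.1, star_zero]; ring) (hc.cZ α) s4 rfl (d3 x) hm hm0
  have hd := mem_ZS.1 (d3 x)
  have e : x⁻¹ * α x = 1 := by
    ext
    · exact hd.1
    · exact hd.2.1
    · exact hd.2.2.1
    · exact d4
    · exact hd.2.2.2.1
    · exact hd.2.2.2.2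
  rw [MulAut.one_apply]
  exact (inv_mul_eq_one.1 e).symm

/-! ### `Aut (UG K) = RR · TT` -/

theorem finite_mulAut (h : HypK K p n) (hG : StGrp.{u}) : Finite (MulAut (UG K)) := by
  have h1 := (hG h).1
  have : Finite (UG K) := Nat.finite_of_card_ne_zero (by
    rw [h1]
    exact pow_ne_zero _ (pow_ne_zero _ h.pp.ne_zero))
  exact Finite.of_injective (fun α : MulAut (UG K) => (α : UG K → UG K)) (fun α β hab => by
    ext1 x
    exact congrFun hab x)

/-- every automorphism agrees on `S/Y` with an element of `TT` -/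
theorem exists_tor (h : HypK K p n) (hc : AllCh K) (hG : StGrp.{u}) (α : MulAut (UG K)) :
    ∃ β ∈ TT K, α * β⁻¹ ∈ RR hc := by
  obtain ⟨w, hw⟩ := exists_om h
  have hfin := h.fin
  let f : K → K := fun t => (α (mk w hw t 0 0 0)).r
  let g : K → K := fun t => (α (mk w hw 0 0 t 0)).u2
  let k : K → K := fun t => (α (mk w hw 0 t 0 0)).u1
  have hf : ∀ x, (α x).r = f x.r := fun x => r_congr hc α rfl
  have hg : ∀ x, (α x).u2 = g x.u2 := fun x => u2_congr hc α rfl
  have hk : ∀ x ∈ YY K, (α x).u1 = k x.u1 := fun x hx => u1_congr hc α hx ⟨rfl, rfl⟩ rfl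
  have fadd : ∀ s t, f (s + t) = f s + f t := by
    intro s t
    have := hf (mk w hw s 0 0 0 * mk w hw t 0 0 0)
    rw [map_mul, UG.mul_r, hf, hf, UG.mul_r] at this
    exact this.symm
  have gadd : ∀ s t, g (s + t) = g s + g t := by
    intro s t
    have := hg (mk w hw 0 0 s 0 * mk w hw 0 0 t 0)
    rw [map_mul, UG.mul_u2, hg, hg, UG.mul_u2] at this
    exact this.symm
  have f0 : f 0 = 0 := by
    have := fadd 0 0
    rw [add_zero] at this
    linear_combination -this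
  have g0 : g 0 = 0 := by
    have := gadd 0 0
    rw [add_zero] at this
    linear_combination -this
  have hcom : ∀ s t, k (s * t) = f s * g t := by
    intro s t
    let x1 : UG K := mk w hw s 0 0 0
    let x2 : UG K := mk w hw 0 0 t 0
    have e1 : (x1 * x2 * x1⁻¹ * x2⁻¹).u1 = s * t := by
      rw [comm_u1]; simp [x1, x2, mk]
    have e2 : x1 * x2 * x1⁻¹ * x2⁻¹ ∈ YY K := ⟨comm_r _ _, comm_u2 _ _⟩
    rw [← e1, ← hk _ e2, map_mul, map_mul, map_mul, map_inv, map_inv, comm_u1, hf, hf, hg, hg]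
    have a1 : x1.r = s := rfl
    have a2 : x2.u2 = t := rfl
    have a3 : x2.r = 0 := rfl
    rw [a1, a2, a3, f0]
    ring
  have f1 : f 1 ≠ 0 := by
    intro h0
    have h1 : α (mk w hw 1 0 0 0) ∈ Q2 K := h0
    have h2 : (mk w hw (1 : K) 0 0 0).r = 0 := (hc.c2.iff α _).1 h1
    exact one_ne_zero h2
  have g1 : g 1 ≠ 0 := by
    intro h0
    have h1 : α (mk w hw 0 0 1 0) ∈ QV K := h0
    have h2 : (mk w hw (0 : K) 0 1 0).u2 = 0 := (hc.cQV.iff α _).1 h1
    exact one_ne_zero h2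
  -- the field automorphism
  have hgf : ∀ t, f 1 * g t = f t * g 1 := by
    intro t
    rw [← hcom, ← hcom, one_mul, mul_one]
  have hff : ∀ s t, f (s * t) * f 1 = f s * f t := by
    intro s t
    apply mul_right_cancel₀ g1
    have h1 : f (s * t) * g 1 = f s * g t := by
      rw [← hcom, ← hcom, mul_one]
    linear_combination f 1 * h1 + f s * hgf t
  let φ : K →+* K :=
    { toFun := fun t => f t * (f 1)⁻¹
      map_one' := mul_inv_cancel₀ f1
      map_mul' := by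
        intro s t
        field_simp
        linear_combination hff s t
      map_zero' := by rw [f0, zero_mul]
      map_add' := by
        intro s t
        rw [fadd, add_mul] }
  have hbij : Function.Bijective φ := Finite.injective_iff_bijective.1 φ.injective
  let τ : K ≃+* K := RingEquiv.ofBijective φ hbij
  have hτ : ∀ t, τ t = f t * (f 1)⁻¹ := fun t => rfl
  obtain ⟨β, hβ⟩ := (hG h).2.2.1 (f 1 * g 1) (g 1) τ (mul_ne_zero f1 g1) g1
  refine ⟨β, Subgroup.subset_closure ⟨_, _, _, hβ⟩, ?_⟩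
  have e1 : ∀ x, (α x).r = (β x).r := by
    intro x
    rw [hf, hβ.r, hτ]
    field_simp
  have e2 : ∀ x, (α x).u2 = (β x).u2 := by
    intro x
    rw [hg, hβ.u2, hτ]
    field_simp
    linear_combination hgf x.u2
  intro x
  have e : β (β⁻¹ x) = x := β.apply_symm_apply x
  rw [MulAut.mul_apply, e1, e2, e]
  exact ⟨rfl, rfl⟩

theorem RR_inf_TT (h : HypK K p n) (hc : AllCh K) (hG : StGrp.{u}) : RR hc ⊓ TT K = ⊥ := by
  rw [eq_bot_iff]
  rintro α ⟨h1, h2⟩
  obtain ⟨w, hw⟩ := exists_om h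
  obtain ⟨x1, x2, τ, hα⟩ := (hG h).2.2.2.1 α h2
  have h1' : ∀ x, (α x).r = x.r ∧ (α x).u2 = x.u2 := h1
  have e2 : ∀ t, x2 * τ t = t := by
    intro t
    have := (h1' (mk w hw 0 0 t 0)).2
    rw [hα.u2] at this
    exact this
  have ex2 : x2 = 1 := by
    have := e2 1
    rwa [map_one, mul_one] at this
  have eτ : ∀ t, τ t = t := by
    intro t
    have := e2 t
    rwa [ex2, one_mul] at this
  have ex1 : x1 = 1 := by
    have := (h1' (mk w hw 1 0 0 0)).1
    rw [hα.r, ex2, inv_one, mul_one] at this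
    have e3 : x1 * τ 1 = 1 := this
    rwa [map_one, mul_one] at e3
  rw [Subgroup.mem_bot]
  ext1 x
  rw [MulAut.one_apply]
  ext
  · exact (h1' x).1
  · rw [hα.u1, ex1, eτ, one_mul]
  · exact (h1' x).2
  · rw [hα.a, ex1, eτ, star_one, one_mul, one_mul]
  · rw [hα.b, ex1, ex2, eτ, star_one, one_mul, one_mul]
  · rw [hα.c, ex2, eτ, star_one, one_mul, one_mul]

theorem RR_card (h : HypK K p n) (hc : AllCh K) (hG : StGrp.{u}) : ∃ e : ℕ, Nat.card (RR hc) = p ^ e := by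
  have := finite_mulAut h hG
  refine ⟨_, Nat.eq_prime_pow_of_unique_prime_dvd (Nat.card_pos (α := RR hc)).ne' ?_⟩
  intro d hd hdvd
  by_contra hne
  have : Fact d.Prime := ⟨hd⟩
  obtain ⟨α, hα⟩ := exists_prime_orderOf_dvd_card' (G := RR hc) d hdvd
  have h1 : (α : MulAut (UG K)) ^ d = 1 := by
    rw [← SubmonoidClass.coe_pow, ← hα, pow_orderOf_eq_one, OneMemClass.coe_one]
  have h2 : (α : MulAut (UG K)) = 1 := RR_trivial h hc α.2 h1 (fun h3 =>
    hne ((Nat.prime_dvd_prime_iff_eq h.pp hd).1 h3).symm)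
  have h3 : α = 1 := Subtype.ext h2
  rw [h3, orderOf_one] at hα
  exact hd.one_lt.ne hα

/-! ### the conjugation -/

open scoped Pointwise in
/-- Schur-Zassenhaus inside a subgroup -/
theorem sz_in {G : Type u} [Group G] [Finite G] (R D T : Subgroup G) [R.Normal] (hs : Group.IsSolvable R)
    (hcop : (Nat.card D).Coprime (Nat.card R)) (hRT : R ⊓ T = ⊥)
    (hall : ∀ x : G, ∃ t ∈ T, x * t⁻¹ ∈ R) : ∃ g : G, ∀ d ∈ D, g * d * g⁻¹ ∈ T := by
  let L : Subgroup G := D ⊔ R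
  have hDL : D ≤ L := le_sup_left
  have hRL : R ≤ L := le_sup_right
  let N : Subgroup L := R.subgroupOf L
  have hN : N.Normal := inferInstance
  let H : Subgroup L := D.subgroupOf L
  let T' : Subgroup L := T.subgroupOf L
  have cN : Nat.card N = Nat.card R := Nat.card_congr (Subgroup.subgroupOfEquivOfLe hRL).toEquiv
  have cH : Nat.card H = Nat.card D := Nat.card_congr (Subgroup.subgroupOfEquivOfLe hDL).toEquiv
  have hDR : D ⊓ R = ⊥ := (Subgroup.disjoint_of_coprime_natCard hcop).eq_bot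
  have hNH : N.IsComplement' H := by
    refine Subgroup.isComplement'_of_disjoint_and_mul_eq_univ ?_ ?_
    · rw [disjoint_iff, eq_bot_iff]
      rintro ⟨x, hx⟩ ⟨h1, h2⟩
      have h3 : x ∈ D ⊓ R := ⟨h2, h1⟩
      rw [hDR] at h3
      exact Subgroup.mem_bot.2 (Subtype.ext h3)
    · rw [Set.eq_univ_iff_forall]
      rintro ⟨x, hx⟩
      have hx' : x ∈ ((R ⊔ D : Subgroup G) : Set G) := by
        rw [sup_comm]
        exact hx
      rw [Subgroup.normal_mul] at hx'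
      obtain ⟨r, hr, d, hd, rfl⟩ := Set.mem_mul.1 hx'
      exact Set.mem_mul.2 ⟨⟨r, hRL hr⟩, hr, ⟨d, hDL hd⟩, hd, rfl⟩
  have hNT : N.IsComplement' T' := by
    refine Subgroup.isComplement'_of_disjoint_and_mul_eq_univ ?_ ?_
    · rw [disjoint_iff, eq_bot_iff]
      rintro ⟨x, hx⟩ ⟨h1, h2⟩
      have h3 : x ∈ R ⊓ T := ⟨h1, h2⟩
      rw [hRT] at h3
      exact Subgroup.mem_bot.2 (Subtype.ext h3)
    · rw [Set.eq_univ_iff_forall]
      rintro ⟨x, hx⟩
      obtain ⟨t, ht, hxt⟩ := hall x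
      have htL : t ∈ L := by
        have : (x * t⁻¹)⁻¹ * x ∈ L := L.mul_mem (L.inv_mem (hRL hxt)) hx
        simpa using this
      refine Set.mem_mul.2 ⟨⟨x * t⁻¹, hRL hxt⟩, hxt, ⟨t, htL⟩, ht, ?_⟩
      exact Subtype.ext (inv_mul_cancel_right x t)
  have iH : Nat.card H = N.index := hNH.symm.index_eq_card.symm
  have iT : Nat.card T' = N.index := hNT.symm.index_eq_card.symm
  have hcop' : (Nat.card N).Coprime N.index := by
    rw [cN, ← iH, cH]
    exact hcop.symm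
  have hsN : Group.IsSolvable N :=
    Group.isSolvable_of_isSolvable_injective (f := (Subgroup.subgroupOfEquivOfLe hRL).toMonoidHom)
      (Subgroup.subgroupOfEquivOfLe hRL).injective
  obtain ⟨g, hg⟩ := Cfsg.Agent.Solvable.SZ.main (Nat.card L) L rfl N hcop' H T' (Or.inl hsN) iH iT
  refine ⟨g, fun d hd => ?_⟩
  have h1 : MulAut.conj g • (⟨d, hDL hd⟩ : L) ∈ MulAut.conj g • H :=
    Subgroup.smul_mem_pointwise_smul _ _ _ hd
  rw [hg] at h1
  exact h1

/-- task PU-POS: `StPos` from `StTI` and `StGrp` -/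
theorem stPos (hTI : StTI.{u}) (hG : StGrp.{u}) : StPos.{u} := by
  intro K _ _ p n h D hD
  have hc := allCh h hTI
  have := finite_mulAut h hG
  have : (RR hc).Normal := RR_normal hc
  obtain ⟨e, he⟩ := RR_card h hc hG
  have hp : Fact p.Prime := ⟨h.pp⟩
  have hpg : IsPGroup p (RR hc) := IsPGroup.of_card he
  have hnil := hpg.isNilpotent
  have hs : Group.IsSolvable (RR hc) := inferInstance
  refine sz_in (RR hc) D (TT K) hs ?_ (RR_inf_TT h hc hG) (exists_tor h hc hG)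
  rw [he]
  exact Nat.Coprime.pow_right e hD

end Cfsg.Agent.H595.PU
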